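import Groth.Agent.Lib.HopfAG.Dense
import Groth.Agent.Lib.HopfAG.Unip

/-!
# Semisimple points are killed by maps to unipotent groups
-/

set_option autoImplicit false
set_option linter.all false

universe u v w

open TensorProduct Polynomial

namespace GrothLib.SSPts3

variable {k : Type u} [Field k]

/-- Translation of functions by a point. -/
noncomputable def rt {A : Type v} [CommRing A] [Bialgebra k A] (g : A →ₐ[k] k) : Module.End k A :=
  letI := HopfRep.Comod.regular k A
  HopfRep.Comod.act k A A g

theorem rt_apply {A : Type v} [CommRing A] [Bialgebra k A] (g : A →ₐ[k] k) (a : A) :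
    rt g a = TensorProduct.rid k A (g.toLinearMap.lTensor A (Coalgebra.comul (R := k) a)) := rfl

theorem counit_rt {A : Type v} [CommRing A] [Bialgebra k A] (g : A →ₐ[k] k) (a : A) :
    Coalgebra.counit (R := k) (rt g a) = g a := by
  rw [rt_apply]
  have : ∀ t : A ⊗[k] A, Coalgebra.counit (R := k) (TensorProduct.rid k A (g.toLinearMap.lTensor A t)) =
      g (TensorProduct.lid k A (Coalgebra.counit.rTensor A t)) := fun t => by
    induction t using TensorProduct.induction_on with
    | zero => simp
    | tmul x y => simp [mul_comm]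
    | add x y hx hy => simp only [map_add, hx, hy]
  rw [this, Coalgebra.rTensor_counit_comul]
  simp

theorem rt_map {A : Type v} [CommRing A] [Bialgebra k A] {A' : Type w} [CommRing A'] [Bialgebra k A']
    (φ : A →ₐc[k] A') (h : A' →ₐ[k] k) (a : A) :
    φ (rt (h.comp (φ : A →ₐ[k] A')) a) = rt h (φ a) := by
  rw [rt_apply, rt_apply, ← CoalgHomClass.map_comp_comul_apply φ a]
  induction Coalgebra.comul (R := k) a using TensorProduct.induction_on with
  | zero => simp
  | tmul x y => simp
  | add x y hx hy => simp only [map_add, hx, hy]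

/-- A point which acts semisimply and comes from a unipotent group is trivial. -/
theorem eq_counit_of_semisimple {A : Type v} [CommRing A] [HopfAlgebra k A] {A' : Type w} [CommRing A']
    [HopfAlgebra k A'] (hU : HopfRep.IsUnipotent k A') (φ : A →ₐc[k] A') (h : A' →ₐ[k] k)
    (hss : ∀ (V : Type v) [AddCommGroup V] [Module k V] [HopfRep.Comod k A V],
      Module.Finite k V → Module.End.IsSemisimple (HopfRep.Comod.act k A V (h.comp (φ : A →ₐ[k] A'))))
    (a : A) : h (φ a) = Coalgebra.counit (R := k) a := by
  classical
  obtain ⟨U, hfin, haU, hUc⟩ := Comodule.exists_finite_subcomod (k := k) (C := A) a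
  letI cU := ComodSub.Comod.restr (HopfRep.Comod.regular k A) U hUc
  let g := h.comp (φ : A →ₐ[k] A')
  let T : Module.End k U := HopfRep.Comod.act k A U g
  have hι : ∀ u : U, ((T u : U) : A) = rt g (u : A) := fun u => by
    rw [rt_apply]
    have hc : U.subtype.rTensor A (cU.coact u) = Coalgebra.comul (R := k) (u : A) :=
      ComodSub.restr_coact_coe (HopfRep.Comod.regular k A) U hUc u
    rw [← hc]
    show U.subtype (TensorProduct.rid k U (g.toLinearMap.lTensor U (cU.coact u))) = _
    induction cU.coact u using TensorProduct.induction_on with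
    | zero => simp
    | tmul x y => simp
    | add x y hx hy => simp only [map_add, hx, hy]
  let ψ : U →ₗ[k] A' := (φ : A →ₐ[k] A').toLinearMap ∘ₗ U.subtype
  have hψ : ∀ u, ψ (T u) = rt h (ψ u) := fun u => (congrArg φ (hι u)).trans (rt_map φ h u)
  have hψP : ∀ (P : k[X]) (u : U), ψ (aeval T P u) = aeval (rt h) P (ψ u) := fun P => by
    induction P using Polynomial.induction_on' with
    | add p q hp hq => intro u; simp only [map_add, LinearMap.add_apply, hp, hq]
    | monomial n c =>
      intro u
      simp only [aeval_monomial, Module.End.mul_apply, Module.algebraMap_end_apply, map_smul]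
      congr 1
      induction n generalizing u with
      | zero => rfl
      | succ n ih => rw [pow_succ, pow_succ, Module.End.mul_apply, Module.End.mul_apply, ih, hψ]
  set P := minpoly k T
  have hsq : Squarefree P := (hss U hfin).minpoly_squarefree
  have hP : aeval (rt h) P (φ a) = 0 := by
    rw [show φ a = ψ ⟨a, haU⟩ from rfl, ← hψP, show aeval T P = 0 from minpoly.aeval k T]
    simp
  letI : HopfRep.Comod k A' A' := HopfRep.Comod.regular k A'
  obtain ⟨n, hn⟩ := GrothLib.Unip.exists_mem_soc hU (φ a)
  let Q : k[X] := X - C 1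
  have hQ : aeval (rt h) (Q ^ (n + 1)) (φ a) = 0 := by
    have h0 : ((rt h - 1) ^ n) (φ a) = 0 := GrothLib.Unip.pow_act_sub_one_eq_zero h n _ hn
    have e : aeval (rt h) Q = rt h - 1 := by simp [Q]
    rw [map_pow, e, pow_succ', Module.End.mul_apply, h0, map_zero]
  let G := EuclideanDomain.gcd P (Q ^ (n + 1))
  have hG : aeval (rt h) G (φ a) = 0 := by
    rw [show G = P * EuclideanDomain.gcdA P (Q ^ (n + 1)) + Q ^ (n + 1) * EuclideanDomain.gcdB P (Q ^ (n + 1)) from
      EuclideanDomain.gcd_eq_gcd_ab _ _, map_add, mul_comm P, mul_comm (Q ^ (n + 1)), map_mul, map_mul,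
      LinearMap.add_apply, Module.End.mul_apply, Module.End.mul_apply, hP, hQ, map_zero, map_zero, add_zero]
  have hdvd : G ∣ Q := ((hsq.squarefree_of_dvd (EuclideanDomain.gcd_dvd_left _ _)).dvd_pow_iff_dvd
    (Nat.succ_ne_zero n)).1 (EuclideanDomain.gcd_dvd_right _ _)
  obtain ⟨R, hR⟩ := hdvd
  have h1 : rt h (φ a) - φ a = 0 := by
    have e : aeval (rt h) Q (φ a) = rt h (φ a) - φ a := by simp [Q]
    rw [← e, hR, mul_comm, map_mul, Module.End.mul_apply, hG, map_zero]
  have h2 := congrArg (Coalgebra.counit (R := k)) (sub_eq_zero.1 h1)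
  rw [counit_rt, CoalgHomClass.counit_comp_apply] at h2
  exact h2

/-- A reduced algebra of finite type over an algebraically closed field whose points commute is cocommutative. -/
theorem isCocomm_of_comm_points [IsAlgClosed k] {A : Type v} [CommRing A] [HopfAlgebra k A]
    [Algebra.FiniteType k A] [IsReduced A]
    (hc : ∀ g g' : WithConv (A →ₐ[k] k), g * g' = g' * g) : Coalgebra.IsCocomm k A := by
  classical
  let E : (A →ₐ[k] k) → (A →ₐ[k] k) → (A ⊗[k] A →ₗ[k] k) := fun g g' =>
    LinearMap.mul' k k ∘ₗ TensorProduct.map g.toLinearMap g'.toLinearMap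
  have sep : ∀ t : A ⊗[k] A, (∀ g g', E g g' t = 0) → t = 0 := fun t ht => by
    let b := Module.Free.chooseBasis k A
    obtain ⟨c, hc'⟩ := TensorProduct.eq_repr_basis_left b t
    suffices c = 0 by rw [← hc', this, Finsupp.sum_zero_index]
    refine Finsupp.ext fun j => Dense.eq_zero_of_forall_point (k := k) _ fun g' => ?_
    let d : Module.Free.ChooseBasisIndex k A →₀ k := c.mapRange g' (map_zero g')
    have hd : Finsupp.linearCombination k b d = 0 := by
      refine Dense.eq_zero_of_forall_point (k := k) _ fun g => ?_
      have := ht g g'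
      rw [← hc', Finsupp.sum, map_sum] at this
      rw [Finsupp.linearCombination_apply, Finsupp.sum_of_support_subset _
        (s := c.support) Finsupp.support_mapRange _ (by simp), map_sum]
      refine Eq.trans (Finset.sum_congr rfl fun i _ => ?_) this
      simp [E, d, mul_comm]
    have := DFunLike.congr_fun (b.linearIndependent.finsuppLinearCombination_injective
      (hd.trans (map_zero (Finsupp.linearCombination k b)).symm)) j
    simpa [d] using this
  refine ⟨LinearMap.ext fun a => sub_eq_zero.1 (sep _ fun g g' => ?_)⟩
  have e : ∀ g g' : A →ₐ[k] k, (WithConv.toConv g * WithConv.toConv g') a = E g g' (Coalgebra.comul (R := k) a) := by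
    intro g g'
    rw [AlgHom.convMul_apply]
    induction Coalgebra.comul (R := k) a using TensorProduct.induction_on with
    | zero => simp
    | tmul x y => simp [E]
    | add x y hx hy => simp only [map_add, hx, hy]
  have sw : ∀ t, E g g' (TensorProduct.comm k A A t) = E g' g t := fun t => by
    induction t using TensorProduct.induction_on with
    | zero => simp
    | tmul x y => simp [E, mul_comm]
    | add x y hx hy => simp only [map_add, hx, hy]
  rw [map_sub, sub_eq_zero]
  show E g g' (TensorProduct.comm k A A (Coalgebra.comul (R := k) a)) = E g g' (Coalgebra.comul (R := k) a)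
  rw [sw, ← e, ← e, hc]

end GrothLib.SSPts3
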